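import Groth.Agent.Lib.Sect6.RegularQuot
import Groth.Agent.Lib.LiaisonH1.Vanish
import Groth.Agent.Lib.FlatDepth.Fibre
import Groth.Agent.Lib.SerreCrit.Basic

/-! # Complete intersections in projective space: unmixedness and projective normality -/

set_option autoImplicit false
universe u

open RingTheory.Sequence IsLocalRing Pointwise MvPolynomial

namespace Groth.Agent.CIUnmixed6

theorem isRegularRing_of_local (L : Type u) [CommRing L] [IsRegularLocalRing L] : IsRegularRing L :=
  isRegularRing_iff.mpr fun p _ => RegLoc.isRegularLocalRing_localization L p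

/-- Depth of the quotient by elements cutting out the right height, in a regular local ring. -/
theorem le_idealDepth_quotient (L : Type u) [CommRing L] [IsRegularLocalRing L] (xs : List L)
    (hxs : ∀ x ∈ xs, x ∈ maximalIdeal L)
    (hht : ∀ P : Ideal L, P.IsPrime → Ideal.ofList xs ≤ P → (xs.length : ℕ∞) ≤ P.height) (k : ℕ)
    (hdim : ((k + xs.length : ℕ) : ℕ∞) ≤ (maximalIdeal L).height) :
    (k : ℕ∞) ≤ LocCoh.idealDepth (maximalIdeal L) (L ⧸ Ideal.ofList xs) := by
  haveI := isRegularRing_of_local L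
  have hrs : IsWeaklyRegular L xs := DepthLib.isWeaklyRegular_of_length_le_idealDepth xs hxs
    ((Sect6.natCast_le_idealDepth_iff _ _).2 hht)
  have h := DepthLib.idealDepth_quot_add_length (I := maximalIdeal L) hrs hxs
  rw [DepthLib.idealDepth_congr (Submodule.quotEquivOfEq _ (Ideal.ofList xs)
    (by rw [smul_eq_mul, Ideal.mul_top]))] at h
  have h1 : ((k + xs.length : ℕ) : ℕ∞) ≤ LocCoh.idealDepth (maximalIdeal L) L :=
    (Sect6.natCast_le_idealDepth_iff _ _).2 fun P hP hle => hdim.trans (Ideal.height_mono hle)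
  rw [Nat.cast_add, ← h] at h1
  exact (ENat.add_le_add_iff_right (ENat.natCast_ne_top xs.length)).1 h1

theorem min_two_height_le_depth {R : Type u} [CommRing R] [IsNoetherianRing R] (p : Ideal R) [p.IsPrime]
    [IsDomain (Localization.AtPrime p)] [IsIntegrallyClosed (Localization.AtPrime p)] :
    min ((2 : ℕ) : ℕ∞) p.height ≤ LocCoh.depth (Localization.AtPrime p) (Localization.AtPrime p) := by
  by_cases h2 : (2 : ℕ∞) ≤ p.height
  · refine le_trans (min_le_left _ _) ?_
    rw [Nat.cast_ofNat]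
    exact SerreCrit.two_le_depth_of_normal _ (by
      rw [IsLocalization.AtPrime.ringKrullDim_eq_height p]; exact WithBot.coe_le_coe.2 h2)
  rcases eq_or_ne p.height 0 with h0 | h0
  · simp [h0]
  obtain ⟨a, ham, ha⟩ : ∃ a ∈ maximalIdeal (Localization.AtPrime p), a ≠ 0 := by
    by_contra! hc
    have hF : IsField (Localization.AtPrime p) :=
      isField_iff_maximalIdeal_eq.2 ((Submodule.eq_bot_iff _).2 hc)
    have := ringKrullDim_eq_zero_of_isField hF
    rw [IsLocalization.AtPrime.ringKrullDim_eq_height p] at this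
    exact h0 (by exact_mod_cast this)
  refine le_trans (min_le_right _ _) (le_trans ?_ (DepthLib.one_le_idealDepth_of_regular ham
    (IsSMulRegular.of_right_eq_zero_of_smul fun x hx => (mul_eq_zero.1 hx).resolve_left ha)))
  exact Order.le_of_lt_succ (lt_of_lt_of_le (not_le.1 h2) (by norm_num))

theorem depth_localization_quotient {R : Type u} [CommRing R] (I : Ideal R) (Q : Ideal (R ⧸ I)) [Q.IsPrime] :
    LocCoh.depth (Localization.AtPrime Q) (Localization.AtPrime Q) =
      LocCoh.idealDepth (maximalIdeal (Localization.AtPrime (Q.comap (Ideal.Quotient.mk I))))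
        (Localization.AtPrime (Q.comap (Ideal.Quotient.mk I)) ⧸
          I.map (algebraMap R (Localization.AtPrime (Q.comap (Ideal.Quotient.mk I))))) := by
  let π : R →+* R ⧸ I := Ideal.Quotient.mk I
  let P := Q.comap π
  let L := Localization.AtPrime P
  let A := Localization.AtPrime Q
  let φ : L →+* A := Localization.localRingHom P Q π rfl
  letI : Algebra L A := φ.toAlgebra
  have hsur : Function.Surjective (algebraMap L A) := by
    intro z
    obtain ⟨⟨a, s⟩, rfl⟩ := IsLocalization.mk'_surjective Q.primeCompl z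
    obtain ⟨a, rfl⟩ := Ideal.Quotient.mk_surjective a
    obtain ⟨t, ht⟩ := Ideal.Quotient.mk_surjective (s : R ⧸ I)
    refine ⟨IsLocalization.mk' L a (⟨t, fun h => s.2 (by rw [← ht]; exact h)⟩ : P.primeCompl), ?_⟩
    show φ _ = _
    rw [Localization.localRingHom_mk']
    congr 1
    exact Subtype.ext ht
  have hker : RingHom.ker φ = I.map (algebraMap R L) := by
    refine le_antisymm (fun z hz => ?_) (Ideal.map_le_iff_le_comap.2 fun x hx => ?_)
    · obtain ⟨⟨a, s⟩, rfl⟩ := IsLocalization.mk'_surjective P.primeCompl z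
      rw [RingHom.mem_ker, Localization.localRingHom_mk', IsLocalization.mk'_eq_zero_iff] at hz
      obtain ⟨⟨t, ht⟩, htz⟩ := hz
      obtain ⟨t, rfl⟩ := Ideal.Quotient.mk_surjective t
      rw [IsLocalization.mk'_mem_map_algebraMap_iff P.primeCompl L I]
      exact ⟨t, ht, Ideal.Quotient.eq_zero_iff_mem.1 (by rw [map_mul]; exact htz)⟩
    · rw [Ideal.mem_comap, RingHom.mem_ker, Localization.localRingHom_to_map,
        Ideal.Quotient.eq_zero_iff_mem.2 hx, map_zero]
  let e : (L ⧸ I.map (algebraMap R L)) ≃ₗ[L] A :=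
    (Submodule.quotEquivOfEq _ (LinearMap.ker (Algebra.linearMap L A)) hker.symm).trans
      ((Algebra.linearMap L A).quotKerEquivOfSurjective hsur)
  rw [← FlatDepth.depth_eq_of_surjective A hsur, LocCoh.depth, ← DepthLib.idealDepth_congr e]

variable {k : Type u} [Field k] {n r : ℕ} {f : Fin r → MvPolynomial (Fin (n + 1)) k} {d : Fin r → ℕ}

local notation "S" => MvPolynomial (Fin (n + 1)) k
local notation "J" => Ideal.span (Set.range f)

theorem constantCoeff_eq_zero {g : S} {e : ℕ} (hg : g.IsHomogeneous e) (he : 0 < e) : constantCoeff g = 0 := by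
  rw [constantCoeff_eq]
  exact hg.coeff_eq_zero (by simpa using he.ne)

theorem mem_irr (hf : ∀ i, (f i).IsHomogeneous (d i)) (hd : ∀ i, 0 < d i) : J ≤ LiaisonH1.irr k n := by
  refine Ideal.span_le.2 ?_
  rintro _ ⟨i, rfl⟩
  exact constantCoeff_eq_zero (hf i) (hd i)

theorem le_height_of_X_mem (P : Ideal S) [P.IsPrime] (hX : ∀ i, (X i : S) ∈ P) :
    P = LiaisonH1.irr k n := by
  refine ((LiaisonH1.irr_isMaximal k n).eq_of_le (Ideal.IsPrime.ne_top inferInstance) fun p hp => ?_).symm
  rw [p.as_sum]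
  refine Ideal.sum_mem _ fun m hm => ?_
  by_cases hm0 : m = 0
  · subst hm0
    rw [RingHom.mem_ker, constantCoeff_eq] at hp
    exact absurd hp (MvPolynomial.mem_support_iff.1 hm)
  obtain ⟨i, hi⟩ := Finsupp.ne_iff.1 hm0
  rw [monomial_eq, Finsupp.prod]
  exact Ideal.mul_mem_left _ _ (Ideal.mem_of_dvd _
    (Finset.dvd_prod_of_mem _ (Finsupp.mem_support_iff.2 hi))
    (Ideal.pow_mem_of_mem _ (hX i) _ (Nat.pos_of_ne_zero hi)))

theorem le_depth_vertex (hf : ∀ i, (f i).IsHomogeneous (d i)) (hd : ∀ i, 0 < d i) (hJ : (J).height = r)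
    (j : ℕ) (hj : j + r ≤ n + 1) (P : Ideal S) [P.IsPrime] (hX : ∀ i, (X i : S) ∈ P) :
    (j : ℕ∞) ≤ LocCoh.idealDepth (maximalIdeal (Localization.AtPrime P))
      (Localization.AtPrime P ⧸ (J).map (algebraMap S (Localization.AtPrime P))) := by
  have hP := le_height_of_X_mem P hX
  let L := Localization.AtPrime P
  let xs := (List.ofFn f).map (algebraMap S L)
  have hlen : xs.length = r := by simp [xs]
  have hof : Ideal.ofList xs = (J).map (algebraMap S L) := by
    show Ideal.ofList ((List.ofFn f).map _) = _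
    rw [← Ideal.map_ofList]
    congr 1
    exact congrArg Ideal.span (Set.ext fun x => by simp [List.mem_ofFn'])
  rw [← hof]
  refine le_idealDepth_quotient L xs (fun x hx => ?_) (fun Q hQ hle => ?_) j ?_
  · obtain ⟨y, hy, rfl⟩ := List.mem_map.1 hx
    obtain ⟨i, rfl⟩ := List.mem_ofFn.1 hy
    rw [IsLocalization.AtPrime.to_map_mem_maximal_iff L P, hP]
    exact mem_irr hf hd (Ideal.subset_span ⟨i, rfl⟩)
  · rw [hlen, ← hJ, ← IsLocalization.height_comap P.primeCompl Q]
    exact Ideal.height_mono (Ideal.map_le_iff_le_comap.1 (hof ▸ hle))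
  · rw [hlen]
    have e : (maximalIdeal L).height = P.height := by
      rw [← IsLocalization.height_comap P.primeCompl (maximalIdeal L)]
      congr 1
      exact IsLocalization.AtPrime.comap_maximalIdeal L P
    rw [e, hP, LiaisonH1.height_irr]
    exact Nat.cast_le.2 hj

theorem mem_of_saturated (hr : r ≤ n) (hf : ∀ i, (f i).IsHomogeneous (d i)) (hd : ∀ i, 0 < d i)
    (hJ : (J).height = r) (g : S) (hg : ∀ i, ∃ m : ℕ, X i ^ m * g ∈ J) : g ∈ J := by
  by_contra hgJ
  have hne : Ideal.Quotient.mk J g ≠ 0 := fun h => hgJ (Ideal.Quotient.eq_zero_iff_mem.1 h)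
  obtain ⟨P, hP, hle⟩ := exists_le_isAssociatedPrime_of_isNoetherianRing S _ hne
  obtain ⟨hPp, c', hc'⟩ := isAssociatedPrime_iff.1 hP
  obtain ⟨c, rfl⟩ := Ideal.Quotient.mk_surjective c'
  have hsm : ∀ a b : S, a • Ideal.Quotient.mk J b = Ideal.Quotient.mk J (a * b) := fun a b => rfl
  haveI := hPp
  have hX : ∀ i, (X i : S) ∈ P := fun i => by
    obtain ⟨m, hm⟩ := hg i
    refine hPp.mem_of_pow_mem m (hle ?_)
    rw [Submodule.mem_colon_singleton, Submodule.mem_bot, hsm, Ideal.Quotient.eq_zero_iff_mem]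
    exact hm
  have hmem : ∀ a, a ∈ P ↔ a * c ∈ J := fun a => by
    rw [hc', Submodule.mem_colon_singleton, Submodule.mem_bot, hsm, Ideal.Quotient.eq_zero_iff_mem]
  let L := Localization.AtPrime P
  let JL := (J).map (algebraMap S L)
  have h1 := le_depth_vertex hf hd hJ 1 (by omega) P hX
  have hJL : JL ≤ maximalIdeal L := by
    refine Ideal.map_le_iff_le_comap.2 fun x hx => ?_
    rw [Ideal.mem_comap, IsLocalization.AtPrime.to_map_mem_maximal_iff L P, le_height_of_X_mem P hX]
    exact mem_irr hf hd hx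
  have htop : maximalIdeal L • (⊤ : Submodule L (L ⧸ JL)) ≠ ⊤ := by
    haveI : Nontrivial (L ⧸ JL) := Ideal.Quotient.nontrivial_iff.2
      (ne_top_of_le_ne_top (maximalIdeal.isMaximal L).ne_top hJL)
    exact DepthLib.smul_top_ne_top (maximalIdeal.isMaximal L).ne_top
  obtain ⟨x, hx, hreg⟩ := DepthLib.exists_isSMulRegular_of_one_le_idealDepth htop (by exact_mod_cast h1)
  obtain ⟨⟨a, s⟩, rfl⟩ := IsLocalization.mk'_surjective P.primeCompl x
  rw [IsLocalization.AtPrime.mk'_mem_maximal_iff L P] at hx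
  have h0 : Ideal.Quotient.mk JL (algebraMap S L c) = 0 := by
    refine hreg ?_
    show IsLocalization.mk' L a s • Ideal.Quotient.mk JL (algebraMap S L c) =
      IsLocalization.mk' L a s • (0 : L ⧸ JL)
    rw [smul_zero]
    show Ideal.Quotient.mk JL (IsLocalization.mk' L a s * algebraMap S L c) = 0
    rw [Ideal.Quotient.eq_zero_iff_mem, mul_comm, IsLocalization.mul_mk'_eq_mk'_of_mul, mul_comm,
      IsLocalization.mk'_mem_map_algebraMap_iff P.primeCompl L J]
    exact ⟨1, one_mem _, by simpa using (hmem a).1 hx⟩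
  rw [Ideal.Quotient.eq_zero_iff_mem, IsLocalization.algebraMap_mem_map_algebraMap_iff P.primeCompl L] at h0
  obtain ⟨t, ht, htc⟩ := h0
  exact ht ((hmem t).2 htc)

theorem two_le_depth_vertex (hr : r < n) (hf : ∀ i, (f i).IsHomogeneous (d i)) (hd : ∀ i, 0 < d i)
    (hJ : (J).height = r) (Q : Ideal (S ⧸ J)) [Q.IsPrime] (hX : ∀ i, Ideal.Quotient.mk J (X i) ∈ Q) :
    2 ≤ LocCoh.depth (Localization.AtPrime Q) (Localization.AtPrime Q) := by
  have h := depth_localization_quotient (J) Q
  rw [h]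
  exact_mod_cast le_depth_vertex hf hd hJ 2 (by omega) (Q.comap (Ideal.Quotient.mk J)) fun i => hX i

theorem isDomain_and_isIntegrallyClosed (hr : r < n) (hf : ∀ i, (f i).IsHomogeneous (d i)) (hd : ∀ i, 0 < d i)
    (hJ : (J).height = r)
    (hnorm : ∀ (Q : Ideal (S ⧸ J)) [Q.IsPrime], (∃ i, Ideal.Quotient.mk J (X i) ∉ Q) →
      IsDomain (Localization.AtPrime Q) ∧ IsIntegrallyClosed (Localization.AtPrime Q)) :
    IsDomain (S ⧸ J) ∧ IsIntegrallyClosed (S ⧸ J) := by
  let T := S ⧸ J
  have hv : ∀ (Q : Ideal T) [Q.IsPrime], (∀ i, Ideal.Quotient.mk J (X i) ∈ Q) → (2 : ℕ∞) ≤ Q.height := by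
    intro Q _ hX
    have h1 := two_le_depth_vertex hr hf hd hJ Q hX
    have h2 := DepthLib.depth_le_supportDim (R := Localization.AtPrime Q) (M := Localization.AtPrime Q)
    rw [Module.supportDim_self_eq_ringKrullDim, IsLocalization.AtPrime.ringKrullDim_eq_height Q] at h2
    exact h1.trans (WithBot.coe_le_coe.1 h2)
  have hR1 : LocCoh.HasRk 1 T := by
    intro Q _ hQ
    by_cases hX : ∀ i, Ideal.Quotient.mk J (X i) ∈ Q
    · exact absurd ((hv Q hX).trans hQ) (by norm_num)
    · push Not at hX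
      haveI := (hnorm Q hX).1
      haveI := (hnorm Q hX).2
      refine SerreCrit.isRegularLocalRing_of_normal _ ?_
      rw [IsLocalization.AtPrime.ringKrullDim_eq_height Q]
      exact_mod_cast hQ
  have hS2 : LocCoh.HasSk 2 T T := by
    rw [SerreCrit.hasSk_iff_height]
    intro p _
    by_cases hX : ∀ i, Ideal.Quotient.mk J (X i) ∈ p
    · exact le_trans (min_le_left _ _) (by exact_mod_cast two_le_depth_vertex hr hf hd hJ p hX)
    push Not at hX
    haveI := (hnorm p hX).1
    haveI := (hnorm p hX).2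
    exact min_two_height_le_depth p
  have hall := SerreCrit.normal_of_R1_S2 hR1 hS2
  haveI : IsReduced T := SerreCrit.isReduced_of_R0_S1 (fun p _ hp => hR1 p (hp.trans (by norm_num)))
    ((SerreCrit.hasSk_iff_height 1).2 fun p _ => le_trans (min_le_min_right _ (by norm_num))
      ((SerreCrit.hasSk_iff_height 2).1 hS2 p))
  have hle : J ≤ LiaisonH1.irr k n := mem_irr hf hd
  let V : Ideal T := (LiaisonH1.irr k n).map (Ideal.Quotient.mk J)
  haveI : V.IsPrime := Ideal.map_isPrime_of_surjective Ideal.Quotient.mk_surjective (by rwa [Ideal.mk_ker])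
  haveI := (hall V).1
  let K := RingHom.ker (algebraMap T (Localization.AtPrime V))
  haveI : K.IsPrime := RingHom.ker_isPrime _
  have hmin : ∀ p ∈ minimalPrimes T, p = K := by
    intro p hp
    haveI := hp.1.1
    have hpJ : p.comap (Ideal.Quotient.mk J) ∈ (J).minimalPrimes := by
      refine ⟨⟨inferInstance, fun x hx => by
        rw [Ideal.mem_comap, Ideal.Quotient.eq_zero_iff_mem.2 hx]; exact p.zero_mem⟩, fun q hq hqp => ?_⟩
      haveI := hq.1
      haveI : (q.map (Ideal.Quotient.mk J)).IsPrime :=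
        Ideal.map_isPrime_of_surjective Ideal.Quotient.mk_surjective (by rw [Ideal.mk_ker]; exact hq.2)
      intro x hx
      rw [← Ideal.mem_quotient_iff_mem hq.2]
      exact hp.2 ⟨inferInstance, bot_le⟩ (Ideal.map_le_iff_le_comap.2 hqp) hx
    have hJh : (J).IsHomogeneous (GrSyz.stdGr k (Fin (n + 1))) := by
      refine Ideal.homogeneous_span _ _ ?_
      rintro _ ⟨i, rfl⟩
      exact ⟨(d i : ℤ), (GrSyz.mem_stdGr_iff k _ _ _).2 fun m hm => by
        have h := hf i hm
        simp only [Finsupp.weight_apply, Finsupp.sum, Pi.one_apply, smul_eq_mul, mul_one] at h ⊢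
        rw [← h]
        simp⟩
    have hpV : p ≤ V := by
      rw [← Ideal.map_comap_of_surjective _ Ideal.Quotient.mk_surjective p]
      exact Ideal.map_mono (LiaisonH1.le_irr (LiaisonH1.isHomogeneous_of_mem_minimalPrimes hJh hpJ)
        (Ideal.IsPrime.ne_top inferInstance))
    have hKp : K ≤ p := fun x hx => by
      obtain ⟨t, ht⟩ := (IsLocalization.map_eq_zero_iff V.primeCompl _ x).1 hx
      exact ((‹p.IsPrime›).mem_or_mem (ht ▸ p.zero_mem : (t : T) * x ∈ p)).resolve_left fun h => t.2 (hpV h)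
    exact le_antisymm (hp.2 ⟨inferInstance, bot_le⟩ hKp) hKp
  haveI : Nontrivial T := Ideal.Quotient.nontrivial_iff.2
    (ne_top_of_le_ne_top (LiaisonH1.irr_isMaximal k n).ne_top hle)
  have hK : K = ⊥ := by
    refine le_antisymm (fun x hx => ?_) bot_le
    rw [Ideal.mem_bot]
    have h1 : x ∈ nilradical T := by
      rw [nilradical_eq_sInf]
      refine Ideal.mem_sInf.2 fun {q} hq => ?_
      haveI : Ideal.IsPrime q := hq
      obtain ⟨p, hp, hpq⟩ := Ideal.exists_minimalPrimes_le (bot_le : (⊥ : Ideal T) ≤ q)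
      exact hpq (hmin p hp ▸ hx)
    rwa [nilradical_eq_zero, Submodule.zero_eq_bot, Ideal.mem_bot] at h1
  haveI : IsDomain T := by
    haveI : (⊥ : Ideal T).IsPrime := hK ▸ ‹K.IsPrime›
    haveI : NoZeroDivisors T := ⟨fun {a b} h => by
      simpa using (Ideal.IsPrime.mem_or_mem (I := (⊥ : Ideal T)) inferInstance (by simpa using h : a * b ∈ ⊥))⟩
    exact NoZeroDivisors.to_isDomain T
  exact ⟨inferInstance, IsIntegrallyClosed.of_localization_maximal fun p _ hp => (hall p).2⟩

end Groth.Agent.CIUnmixed6
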